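import Mathlib
import Cfsg.Agent.H68.Ly.Rels
import Cfsg.Agent.H77.HN.Words

/-!
The relations among a, b, c, d of the presentation of the Lyons group as a list, and letters
for a, b, c, d and the derived elements e, c₂, …, c₅, a₂, a₃.

Letter `2j + 1` is the element itself and `2j` its inverse.
-/

set_option autoImplicit false

namespace H23
namespace Ly

open H68.Ly (q2 q3 q4 q5 ee Rels)

variable {G : Type*} [Group G]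

/-- the values of the letters -/
def genOf (a b c d : G) : ℕ → G
  | 0 => a⁻¹
  | 1 => a
  | 2 => b⁻¹
  | 3 => b
  | 4 => c⁻¹
  | 5 => c
  | 6 => d⁻¹
  | 7 => d
  | 8 => (ee a b c d)⁻¹
  | 9 => ee a b c d
  | 10 => (q2 a c)⁻¹
  | 11 => q2 a c
  | 12 => (q3 b c)⁻¹
  | 13 => q3 b c
  | 14 => (q4 b c)⁻¹
  | 15 => q4 b c
  | 16 => (q5 a c)⁻¹
  | 17 => q5 a c
  | 18 => (b * a * b⁻¹)⁻¹
  | 19 => b * a * b⁻¹
  | 20 => (b ^ 2 * a * (b ^ 2)⁻¹)⁻¹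
  | 21 => b ^ 2 * a * (b ^ 2)⁻¹
  | _ => 1

theorem map_q2 {H : Type*} [Group H] (f : G →* H) (a c : G) : f (q2 a c) = q2 (f a) (f c) := by
  simp [q2]

theorem map_q3 {H : Type*} [Group H] (f : G →* H) (b c : G) : f (q3 b c) = q3 (f b) (f c) := by
  simp [q3]

theorem map_q4 {H : Type*} [Group H] (f : G →* H) (b c : G) : f (q4 b c) = q4 (f b) (f c) := by
  simp [q4]

theorem map_q5 {H : Type*} [Group H] (f : G →* H) (a c : G) : f (q5 a c) = q5 (f a) (f c) := by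
  simp [q5, map_q2]

theorem map_ee {H : Type*} [Group H] (f : G →* H) (a b c d : G) :
    f (ee a b c d) = ee (f a) (f b) (f c) (f d) := by
  simp [ee]

theorem map_genOf {H : Type*} [Group H] (f : G →* H) (a b c d : G) (l : ℕ) :
    f (genOf a b c d l) = genOf (f a) (f b) (f c) (f d) l := by
  unfold genOf
  split <;> simp [map_q2, map_q3, map_q4, map_q5, map_ee]

/-- the relations as elements -/
def relList (a b c d : G) : List G := [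
  a ^ 8,
  b ^ 5,
  (a * b) ^ 4,
  (a ^ 2)⁻¹ * b⁻¹ * a ^ 2 * b,
  (a⁻¹ * b⁻¹ * a * b) ^ 3,
  c ^ 5,
  q5 a c ^ 5,
  c⁻¹ * (q5 a c)⁻¹ * c * q5 a c,
  (q2 a c)⁻¹ * (q5 a c)⁻¹ * q2 a c * q5 a c,
  (q3 b c)⁻¹ * (q5 a c)⁻¹ * q3 b c * q5 a c,
  (q4 b c)⁻¹ * (q5 a c)⁻¹ * q4 b c * q5 a c,
  c⁻¹ * (q3 b c)⁻¹ * c * q3 b c * ((q5 a c ^ 2)⁻¹)⁻¹,
  c⁻¹ * (q4 b c)⁻¹ * c * q4 b c * (q5 a c ^ 2)⁻¹,
  (q2 a c)⁻¹ * (q3 b c)⁻¹ * q2 a c * q3 b c * ((q5 a c)⁻¹)⁻¹,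
  (q2 a c)⁻¹ * (q4 b c)⁻¹ * q2 a c * q4 b c,
  (q3 b c)⁻¹ * (q4 b c)⁻¹ * q3 b c * q4 b c * ((q5 a c)⁻¹)⁻¹,
  a⁻¹ * q2 a c * a * ((c ^ 2)⁻¹)⁻¹,
  a⁻¹ * q3 b c * a * ((q3 b c ^ 2)⁻¹ * c * q4 b c)⁻¹,
  a⁻¹ * q4 b c * a * (c * (q2 a c)⁻¹ * (q3 b c)⁻¹ * q4 b c * c * q4 b c)⁻¹,
  a⁻¹ * q5 a c * a * (q5 a c ^ 2)⁻¹,
  b⁻¹ * q2 a c * b * (q2 a c * q3 b c * (q4 b c)⁻¹ * c⁻¹ * (q4 b c)⁻¹)⁻¹,
  b⁻¹ * q3 b c * b * (c ^ 2 * q4 b c * (q3 b c ^ 2)⁻¹)⁻¹,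
  b⁻¹ * q5 a c * b * (q5 a c)⁻¹,
  ee a b c d ^ 2,
  (ee a b c d)⁻¹ * c * ee a b c d * (b * q3 b c * b * c⁻¹)⁻¹,
  (ee a b c d)⁻¹ * q3 b c * ee a b c d * (b ^ 2 * a * q2 a c * c⁻¹ * (q4 b c)⁻¹ * a⁻¹)⁻¹,
  (ee a b c d)⁻¹ * q4 b c * ee a b c d * (b ^ 2 * (q3 b c)⁻¹ * q4 b c)⁻¹,
  (ee a b c d)⁻¹ * q5 a c * ee a b c d * (c * (q3 b c)⁻¹ * c * (q4 b c)⁻¹)⁻¹,
  ee a b c d * a ^ 2 * ee a b c d * (a * b ^ 2 * a * b⁻¹ * a * c * q5 a c * (q4 b c)⁻¹)⁻¹,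
  (ee a b c d)⁻¹ * b * ee a b c d * (c * (q3 b c)⁻¹ * (q4 b c ^ 2)⁻¹)⁻¹,
  ee a b c d * q2 a c * ee a b c d * (q2 a c)⁻¹ * ee a b c d * q2 a c * (q4 b c)⁻¹ * a * q3 b c * a ^ 3,
  d * (a * b ^ 2 * a⁻¹ * b⁻¹ * c⁻¹ * (q4 b c)⁻¹ * (q5 a c)⁻¹ * a * ee a b c d * a * ee a b c d * a * (q2 a c)⁻¹ * b * ee a b c d)⁻¹,
  b⁻¹ * d⁻¹ * b * d,
  d⁻¹ * a * d * (a ^ 3)⁻¹]

theorem map_relList {H : Type*} [Group H] (f : G →* H) (a b c d : G) :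
    (relList a b c d).map f = relList (f a) (f b) (f c) (f d) := by
  simp [relList, map_q2, map_q3, map_q4, map_q5, map_ee]

theorem relList_of_rels {a b c d : G} (h : Rels a b c d) : ∀ r ∈ relList a b c d, r = 1 := by
  simp only [relList, List.forall_mem_cons, List.not_mem_nil, IsEmpty.forall_iff, implies_true, and_true]
  exact ⟨h.r1, h.r2, h.r3, h.r4, h.r5, h.r11, h.r12, h.r13, h.r14, h.r15, h.r16, mul_inv_eq_one.mpr h.r17, mul_inv_eq_one.mpr h.r18, mul_inv_eq_one.mpr h.r19, h.r20, mul_inv_eq_one.mpr h.r21, mul_inv_eq_one.mpr h.r22, mul_inv_eq_one.mpr h.r23, mul_inv_eq_one.mpr h.r24, mul_inv_eq_one.mpr h.r25, mul_inv_eq_one.mpr h.r26, mul_inv_eq_one.mpr h.r27, mul_inv_eq_one.mpr h.r28, h.r30, mul_inv_eq_one.mpr h.r31, mul_inv_eq_one.mpr h.r32, mul_inv_eq_one.mpr h.r33, mul_inv_eq_one.mpr h.r34, mul_inv_eq_one.mpr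 h.r35, mul_inv_eq_one.mpr h.r36, h.r38, mul_inv_eq_one.mpr h.r39, h.r41, mul_inv_eq_one.mpr h.r42⟩

theorem rels_of_relList {a b c d : G} (h : ∀ r ∈ relList a b c d, r = 1) : Rels a b c d := by
  simp only [relList, List.forall_mem_cons, List.not_mem_nil, IsEmpty.forall_iff, implies_true, and_true] at h
  obtain ⟨h1, h2, h3, h4, h5, h11, h12, h13, h14, h15, h16, h17, h18, h19, h20, h21, h22, h23, h24, h25, h26, h27, h28, h30, h31, h32, h33, h34, h35, h36, h38, h39, h41, h42⟩ := h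
  exact ⟨h1, h2, h3, h4, h5, h11, h12, h13, h14, h15, h16, mul_inv_eq_one.mp h17, mul_inv_eq_one.mp h18, mul_inv_eq_one.mp h19, h20, mul_inv_eq_one.mp h21, mul_inv_eq_one.mp h22, mul_inv_eq_one.mp h23, mul_inv_eq_one.mp h24, mul_inv_eq_one.mp h25, mul_inv_eq_one.mp h26, mul_inv_eq_one.mp h27, mul_inv_eq_one.mp h28, h30, mul_inv_eq_one.mp h31, mul_inv_eq_one.mp h32, mul_inv_eq_one.mp h33, mul_inv_eq_one.mp h34, mul_inv_eq_one.mp h35, mul_inv_eq_one.mp h36, h38, mul_inv_eq_one.mp h39, h41, mul_inv_eq_one.mp h42⟩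

end Ly
end H23
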