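import Mathlib
import Cfsg.Agent.H23.Ly.Rels
import Cfsg.Agent.H77.HN.Checks
import Cfsg.Agent.H23.Ly.Data.ChkUndo
import Cfsg.Agent.H23.Ly.Data.ChkLett
import Cfsg.Agent.H23.Ly.Data.ChkRel0
import Cfsg.Agent.H23.Ly.Data.ChkRel1
import Cfsg.Agent.H23.Ly.Data.ChkRel2
import Cfsg.Agent.H23.Ly.Data.ChkRel3
import Cfsg.Agent.H23.Ly.Data.ChkRel4
import Cfsg.Agent.H23.Ly.Data.ChkRel5
import Cfsg.Agent.H23.Ly.Data.ChkRel6
import Cfsg.Agent.H23.Ly.Data.ChkRel7

/-!
The permutations of 19530 points satisfying the relations.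
-/

set_option autoImplicit false
set_option maxRecDepth 100000

namespace H23
namespace Ly

open H77.HN (evw Rep run)
open Data (T)

/-- the permutation of two letters undoing each other -/
def permPair (l l' : ℕ) (h1 : ∀ c < 19530, T l (T l' c) = c ∧ T l' c < 19530)
    (h2 : ∀ c < 19530, T l' (T l c) = c ∧ T l c < 19530) : Equiv.Perm (Fin 19530) where
  toFun c := ⟨T l c, (h2 c c.2).2⟩
  invFun c := ⟨T l' c, (h1 c c.2).2⟩
  left_inv c := Fin.ext (h2 c c.2).1
  right_inv c := Fin.ext (h1 c c.2).1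

noncomputable def pA : Equiv.Perm (Fin 19530) := permPair 1 0 Data.undo1 Data.undo0
noncomputable def pB : Equiv.Perm (Fin 19530) := permPair 3 2 Data.undo3 Data.undo2
noncomputable def pC : Equiv.Perm (Fin 19530) := permPair 5 4 Data.undo5 Data.undo4
noncomputable def pD : Equiv.Perm (Fin 19530) := permPair 7 6 Data.undo7 Data.undo6

/-- the permutations of the letters -/
noncomputable def pgen : ℕ → Equiv.Perm (Fin 19530) := genOf pA pB pC pD

theorem T_of_ge {l : ℕ} (h : 22 ≤ l) (c : ℕ) : T l c = c := by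
  have : Nat.blt l 22 = false := by
    rw [Bool.eq_false_iff]; intro hb; simp [Nat.blt] at hb; omega
  unfold T
  rw [this]

theorem spec_base : ∀ l < 8, ∀ p : Fin 19530, (pgen l p : ℕ) = T l p := by
  intro l hl p
  interval_cases l <;> rfl

theorem spec_word : ∀ (w : List ℕ), (∀ a ∈ w, a < 8) → ∀ p : Fin 19530,
    (evw pgen w p : ℕ) = run T w p := by
  intro w
  induction w with
  | nil => intro _ p; simp [run]
  | cons a w ih =>
    intro h p
    simp only [List.mem_cons, forall_eq_or_imp] at h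
    rw [H77.HN.evw_cons, Equiv.Perm.mul_apply, ih h.2, spec_base a h.1]; rfl

theorem spec_derived {k : ℕ} {w : List ℕ} (hw : ∀ a ∈ w, a < 8) (he : pgen k = evw pgen w)
    (hi : pgen (k + 1) = (pgen k)⁻¹) (h : ∀ c < 19530, run T w c = T k c)
    (hu : ∀ c < 19530, T k (T (k + 1) c) = c ∧ T (k + 1) c < 19530) (p : Fin 19530) :
    (pgen k p : ℕ) = T k p ∧ (pgen (k + 1) p : ℕ) = T (k + 1) p := by
  have key : ∀ q : Fin 19530, (pgen k q : ℕ) = T k q := fun q => by
    rw [he, spec_word w hw, h q q.2]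
  refine ⟨key p, ?_⟩
  obtain ⟨h1, h2⟩ := hu p p.2
  have e : pgen k ⟨T (k + 1) p, h2⟩ = p := Fin.ext (by rw [key]; exact h1)
  rw [hi, show (pgen k)⁻¹ p = ⟨T (k + 1) p, h2⟩ from Equiv.Perm.inv_eq_iff_eq.mpr e.symm]

theorem spec_all (l : ℕ) (p : Fin 19530) : (pgen l p : ℕ) = T l p := by
  rcases Nat.lt_or_ge l 22 with hl | hl
  swap
  · rw [T_of_ge hl]
    obtain ⟨j, rfl⟩ := Nat.exists_eq_add_of_le' hl
    rfl
  rcases Nat.lt_or_ge l 8 with h8 | h8
  · exact spec_base l h8 p
  have d8 := spec_derived (k := 8) (w := [3,3,1,5,0,4,1,4,0,6,4,2,0,3,6,4,6]) (by decide)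
    (by simp [pgen, genOf, H68.Ly.ee, H68.Ly.q2, H68.Ly.q3, H68.Ly.q4, H68.Ly.q5, pow_succ, mul_assoc]) (by simp [pgen, genOf])
    Data.letter8 Data.undo8 p
  have d10 := spec_derived (k := 10) (w := [1,4,0]) (by decide)
    (by simp [pgen, genOf, H68.Ly.ee, H68.Ly.q2, H68.Ly.q3, H68.Ly.q4, H68.Ly.q5, pow_succ, mul_assoc]) (by simp [pgen, genOf])
    Data.letter10 Data.undo10 p
  have d12 := spec_derived (k := 12) (w := [3,4,2]) (by decide)
    (by simp [pgen, genOf, H68.Ly.ee, H68.Ly.q2, H68.Ly.q3, H68.Ly.q4, H68.Ly.q5, pow_succ, mul_assoc]) (by simp [pgen, genOf])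
    Data.letter12 Data.undo12 p
  have d14 := spec_derived (k := 14) (w := [2,4,3]) (by decide)
    (by simp [pgen, genOf, H68.Ly.ee, H68.Ly.q2, H68.Ly.q3, H68.Ly.q4, H68.Ly.q5, pow_succ, mul_assoc]) (by simp [pgen, genOf])
    Data.letter14 Data.undo14 p
  have d16 := spec_derived (k := 16) (w := [5,1,5,0,4,1,4,0]) (by decide)
    (by simp [pgen, genOf, H68.Ly.ee, H68.Ly.q2, H68.Ly.q3, H68.Ly.q4, H68.Ly.q5, pow_succ, mul_assoc]) (by simp [pgen, genOf])
    Data.letter16 Data.undo16 p
  have d18 := spec_derived (k := 18) (w := [2,0,3]) (by decide)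
    (by simp [pgen, genOf, H68.Ly.ee, H68.Ly.q2, H68.Ly.q3, H68.Ly.q4, H68.Ly.q5, pow_succ, mul_assoc]) (by simp [pgen, genOf])
    Data.letter18 Data.undo18 p
  have d20 := spec_derived (k := 20) (w := [2,2,0,3,3]) (by decide)
    (by simp [pgen, genOf, H68.Ly.ee, H68.Ly.q2, H68.Ly.q3, H68.Ly.q4, H68.Ly.q5, pow_succ, mul_assoc]) (by simp [pgen, genOf])
    Data.letter20 Data.undo20 p
  interval_cases l
  · exact d8.1
  · exact d8.2
  · exact d10.1
  · exact d10.2
  · exact d12.1
  · exact d12.2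
  · exact d14.1
  · exact d14.2
  · exact d16.1
  · exact d16.2
  · exact d18.1
  · exact d18.2
  · exact d20.1
  · exact d20.2

/-- the action of the letters -/
noncomputable def prep : Rep pgen 19530 T where
  φ := MonoidHom.id _
  spec := spec_all

theorem relW {w : List ℕ} (h : ∀ c < 19530, run T w c = c) : evw pgen w = 1 := by
  refine Equiv.ext fun p => Fin.ext ?_
  have := h p p.2
  rw [← prep.evw_apply] at this
  exact this

open H68.Ly (q2 q3 q4 q5 ee)

theorem perm_rels : ∀ r ∈ relList pA pB pC pD, r = 1 := by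
  have k0 := relW Data.rel0
  simp only [Data.w0, pgen, genOf, H77.HN.evw_cons, H77.HN.evw_nil, one_mul] at k0
  have k1 := relW Data.rel1
  simp only [Data.w1, pgen, genOf, H77.HN.evw_cons, H77.HN.evw_nil, one_mul] at k1
  have k2 := relW Data.rel2
  simp only [Data.w2, pgen, genOf, H77.HN.evw_cons, H77.HN.evw_nil, one_mul] at k2
  have k3 := relW Data.rel3
  simp only [Data.w3, pgen, genOf, H77.HN.evw_cons, H77.HN.evw_nil, one_mul] at k3
  have k4 := relW Data.rel4
  simp only [Data.w4, pgen, genOf, H77.HN.evw_cons, H77.HN.evw_nil, one_mul] at k4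
  have k5 := relW Data.rel5
  simp only [Data.w5, pgen, genOf, H77.HN.evw_cons, H77.HN.evw_nil, one_mul] at k5
  have k6 := relW Data.rel6
  simp only [Data.w6, pgen, genOf, H77.HN.evw_cons, H77.HN.evw_nil, one_mul] at k6
  have k7 := relW Data.rel7
  simp only [Data.w7, pgen, genOf, H77.HN.evw_cons, H77.HN.evw_nil, one_mul] at k7
  have k8 := relW Data.rel8
  simp only [Data.w8, pgen, genOf, H77.HN.evw_cons, H77.HN.evw_nil, one_mul] at k8
  have k9 := relW Data.rel9
  simp only [Data.w9, pgen, genOf, H77.HN.evw_cons, H77.HN.evw_nil, one_mul] at k9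
  have k10 := relW Data.rel10
  simp only [Data.w10, pgen, genOf, H77.HN.evw_cons, H77.HN.evw_nil, one_mul] at k10
  have k11 := relW Data.rel11
  simp only [Data.w11, pgen, genOf, H77.HN.evw_cons, H77.HN.evw_nil, one_mul] at k11
  have k12 := relW Data.rel12
  simp only [Data.w12, pgen, genOf, H77.HN.evw_cons, H77.HN.evw_nil, one_mul] at k12
  have k13 := relW Data.rel13
  simp only [Data.w13, pgen, genOf, H77.HN.evw_cons, H77.HN.evw_nil, one_mul] at k13
  have k14 := relW Data.rel14
  simp only [Data.w14, pgen, genOf, H77.HN.evw_cons, H77.HN.evw_nil, one_mul] at k14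
  have k15 := relW Data.rel15
  simp only [Data.w15, pgen, genOf, H77.HN.evw_cons, H77.HN.evw_nil, one_mul] at k15
  have k16 := relW Data.rel16
  simp only [Data.w16, pgen, genOf, H77.HN.evw_cons, H77.HN.evw_nil, one_mul] at k16
  have k17 := relW Data.rel17
  simp only [Data.w17, pgen, genOf, H77.HN.evw_cons, H77.HN.evw_nil, one_mul] at k17
  have k18 := relW Data.rel18
  simp only [Data.w18, pgen, genOf, H77.HN.evw_cons, H77.HN.evw_nil, one_mul] at k18
  have k19 := relW Data.rel19
  simp only [Data.w19, pgen, genOf, H77.HN.evw_cons, H77.HN.evw_nil, one_mul] at k19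
  have k20 := relW Data.rel20
  simp only [Data.w20, pgen, genOf, H77.HN.evw_cons, H77.HN.evw_nil, one_mul] at k20
  have k21 := relW Data.rel21
  simp only [Data.w21, pgen, genOf, H77.HN.evw_cons, H77.HN.evw_nil, one_mul] at k21
  have k22 := relW Data.rel22
  simp only [Data.w22, pgen, genOf, H77.HN.evw_cons, H77.HN.evw_nil, one_mul] at k22
  have k23 := relW Data.rel23
  simp only [Data.w23, pgen, genOf, H77.HN.evw_cons, H77.HN.evw_nil, one_mul] at k23
  have k24 := relW Data.rel24
  simp only [Data.w24, pgen, genOf, H77.HN.evw_cons, H77.HN.evw_nil, one_mul] at k24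
  have k25 := relW Data.rel25
  simp only [Data.w25, pgen, genOf, H77.HN.evw_cons, H77.HN.evw_nil, one_mul] at k25
  have k26 := relW Data.rel26
  simp only [Data.w26, pgen, genOf, H77.HN.evw_cons, H77.HN.evw_nil, one_mul] at k26
  have k27 := relW Data.rel27
  simp only [Data.w27, pgen, genOf, H77.HN.evw_cons, H77.HN.evw_nil, one_mul] at k27
  have k28 := relW Data.rel28
  simp only [Data.w28, pgen, genOf, H77.HN.evw_cons, H77.HN.evw_nil, one_mul] at k28
  have k29 := relW Data.rel29
  simp only [Data.w29, pgen, genOf, H77.HN.evw_cons, H77.HN.evw_nil, one_mul] at k29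
  have k30 := relW Data.rel30
  simp only [Data.w30, pgen, genOf, H77.HN.evw_cons, H77.HN.evw_nil, one_mul] at k30
  have k31 := relW Data.rel31
  simp only [Data.w31, pgen, genOf, H77.HN.evw_cons, H77.HN.evw_nil, one_mul] at k31
  have k32 := relW Data.rel32
  simp only [Data.w32, pgen, genOf, H77.HN.evw_cons, H77.HN.evw_nil, one_mul] at k32
  have k33 := relW Data.rel33
  simp only [Data.w33, pgen, genOf, H77.HN.evw_cons, H77.HN.evw_nil, one_mul] at k33
  simp only [relList, List.forall_mem_cons, List.not_mem_nil, IsEmpty.forall_iff, implies_true, and_true]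
  refine ⟨?_, ?_, ?_, ?_, ?_, ?_, ?_, ?_, ?_, ?_, ?_, ?_, ?_, ?_, ?_, ?_, ?_, ?_, ?_, ?_, ?_, ?_, ?_, ?_, ?_, ?_, ?_, ?_, ?_, ?_, ?_, ?_, ?_, ?_⟩
  · simpa [pow_succ, mul_assoc] using k0
  · simpa [pow_succ, mul_assoc] using k1
  · simpa [pow_succ, mul_assoc] using k2
  · simpa [pow_succ, mul_assoc] using k3
  · simpa [pow_succ, mul_assoc] using k4
  · simpa [pow_succ, mul_assoc] using k5
  · simpa [pow_succ, mul_assoc] using k6
  · simpa [pow_succ, mul_assoc] using k7
  · simpa [pow_succ, mul_assoc] using k8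
  · simpa [pow_succ, mul_assoc] using k9
  · simpa [pow_succ, mul_assoc] using k10
  · simpa [pow_succ, mul_assoc] using k11
  · simpa [pow_succ, mul_assoc] using k12
  · simpa [pow_succ, mul_assoc] using k13
  · simpa [pow_succ, mul_assoc] using k14
  · simpa [pow_succ, mul_assoc] using k15
  · simpa [pow_succ, mul_assoc] using k16
  · simpa [pow_succ, mul_assoc] using k17
  · simpa [pow_succ, mul_assoc] using k18
  · simpa [pow_succ, mul_assoc] using k19
  · simpa [pow_succ, mul_assoc] using k20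
  · simpa [pow_succ, mul_assoc] using k21
  · simpa [pow_succ, mul_assoc] using k22
  · simpa [pow_succ, mul_assoc] using k23
  · simpa [pow_succ, mul_assoc] using k24
  · simpa [pow_succ, mul_assoc] using k25
  · simpa [pow_succ, mul_assoc] using k26
  · simpa [pow_succ, mul_assoc] using k27
  · simpa [pow_succ, mul_assoc] using k28
  · simpa [pow_succ, mul_assoc] using k29
  · simpa [pow_succ, mul_assoc] using k30
  · simpa [pow_succ, mul_assoc] using k31
  · simpa [pow_succ, mul_assoc] using k32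
  · simpa [pow_succ, mul_assoc] using k33

end Ly
end H23
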