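import Mathlib
import Cfsg.Agent.H23.Ly.Perm
import Cfsg.Agent.H23.Ly.Data.Chain
import Cfsg.Agent.H77.HN.Chain

/-!
The group presented by the relations among a, b, c, d, acting on 19530 points.
-/

set_option autoImplicit false
set_option maxRecDepth 100000

namespace H23
namespace Ly

open H77.HN (Rep evw levelCheck chainCheck chainOrd exact_of_bound)
open Data (T)

/-- four generators -/
inductive Gen4
  | a
  | b
  | c
  | d
  deriving DecidableEq

def fa : FreeGroup Gen4 := FreeGroup.of .a
def fb : FreeGroup Gen4 := FreeGroup.of .b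
def fc : FreeGroup Gen4 := FreeGroup.of .c
def fd : FreeGroup Gen4 := FreeGroup.of .d

/-- the group on a, b, c, d -/
abbrev N0 : Type := PresentedGroup {r | r ∈ relList fa fb fc fd}

def na : N0 := PresentedGroup.of .a
def nb : N0 := PresentedGroup.of .b
def nc : N0 := PresentedGroup.of .c
def nd : N0 := PresentedGroup.of .d

theorem n0_rels : H68.Ly.Rels na nb nc nd := by
  refine rels_of_relList fun r hr => ?_
  have e := map_relList (PresentedGroup.mk {r | r ∈ relList fa fb fc fd}) fa fb fc fd
  change List.map _ _ = relList na nb nc nd at e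
  rw [← e, List.mem_map] at hr
  obtain ⟨s, hs, rfl⟩ := hr
  exact PresentedGroup.one_of_mem hs

theorem n0_closure : Subgroup.closure ({na, nb, nc, nd} : Set N0) = ⊤ := by
  rw [eq_top_iff, ← PresentedGroup.closure_range_of, Subgroup.closure_le]
  rintro _ ⟨g, rfl⟩
  apply Subgroup.subset_closure
  cases g <;> simp [na, nb, nc, nd]

section Lift

variable {G : Type*} [Group G] {a b c d : G}

/-- the images of the generators -/
def images (a b c d : G) : Gen4 → G
  | .a => a
  | .b => b
  | .c => c
  | .d => d

theorem images_rel (h : H68.Ly.Rels a b c d) :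
    ∀ r ∈ {r | r ∈ relList fa fb fc fd}, FreeGroup.lift (images a b c d) r = 1 := by
  intro r hr
  refine relList_of_rels h _ ?_
  have e := map_relList (FreeGroup.lift (images a b c d)) fa fb fc fd
  simp only [fa, fb, fc, fd, FreeGroup.lift_apply_of, images] at e
  rw [← e]
  exact List.mem_map_of_mem hr

/-- the map to a group with these relations -/
def toG (h : H68.Ly.Rels a b c d) : N0 →* G := PresentedGroup.toGroup (images_rel h)

theorem toG_a (h : H68.Ly.Rels a b c d) : toG h na = a := by simp [toG, na, images]
theorem toG_b (h : H68.Ly.Rels a b c d) : toG h nb = b := by simp [toG, nb, images]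
theorem toG_c (h : H68.Ly.Rels a b c d) : toG h nc = c := by simp [toG, nc, images]
theorem toG_d (h : H68.Ly.Rels a b c d) : toG h nd = d := by simp [toG, nd, images]

theorem toG_range (h : H68.Ly.Rels a b c d) :
    (toG h).range = Subgroup.closure ({a, b, c, d} : Set G) := by
  rw [MonoidHom.range_eq_map, ← n0_closure, MonoidHom.map_closure]
  simp [Set.image_insert_eq, toG_a h, toG_b h, toG_c h, toG_d h]

end Lift

/-- the values of the letters -/
def gen : ℕ → N0 := genOf na nb nc nd

/-- the action on 19530 points -/
noncomputable def phi : N0 →* Equiv.Perm (Fin 19530) := toG (rels_of_relList perm_rels)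

/-- the action through the letters -/
noncomputable def rep : Rep gen 19530 T where
  φ := phi
  spec l p := by
    rw [gen, map_genOf phi, phi, toG_a, toG_b, toG_c, toG_d]
    exact spec_all l p

/-- letters generating the stabiliser of the point 0: a, c, c₂, …, c₅, a₂, a₃ and their inverses -/
def hl : List ℕ := [0, 1, 4, 5, 10, 11, 12, 13, 14, 15, 16, 17, 18, 19, 20, 21]

theorem chain_checks :
    hl.all (fun l => Nat.beq (T l 0) 0) = true ∧ chainCheck T hl [] Data.levels = true ∧
      19530 * chainOrd Data.levels = 5859000000 ∧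
      Data.levels.all (fun p => Nat.blt p.1 19530) = true ∧
      0 :: Data.levels.map Prod.fst = [0, 66, 193, 194, 195] := by decide +kernel

theorem trans_check :
    levelCheck T [0, 1, 2, 3, 4, 5, 6, 7] [] 0 Data.trans 0 = true ∧ Data.trans.length = 19530 := by
  decide +kernel

/-- order, point stabiliser and base, given an upper bound for the order -/
theorem exact_facts [Finite N0] (hle : Nat.card N0 ≤ 5859000000) :
    Nat.card N0 = 5859000000 ∧
      Subgroup.closure (gen '' {l | l ∈ hl}) = rep.fixPt ⟨0, by decide⟩ ∧
      rep.IsBase [0, 66, 193, 194, 195] ∧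
      Nat.card (rep.fixPt ⟨0, by decide⟩) = 300000 := by
  obtain ⟨h1, h2, h3, h4, h5⟩ := chain_checks
  have hb : ∀ p ∈ Data.levels, p.1 < 19530 := fun p hp => by
    have := List.all_eq_true.mp h4 p hp
    simp only [Nat.blt, Nat.ble_eq] at this
    exact this
  obtain ⟨e1, e2, e3, e4⟩ := exact_of_bound rep (n := 19530) (by decide) trans_check.1 trans_check.2
    h1 hb h2 hle h3
  refine ⟨e1, e2, h5 ▸ e3, ?_⟩
  rw [e4]
  omega

end Ly
end H23
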