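import Mathlib
import Cfsg.Prelude.Def_Spor_Ly
import Cfsg.Agent.H23.Ly.NModel

/-!
The map from the group on a, b, c, d to the presented Lyons group.
-/

set_option autoImplicit false
set_option maxHeartbeats 1000000

namespace H23
namespace Ly

open Cfsg.Spor (Ly)
open H68.Ly (q2 q3 q4 q5 ee Rels)

/-- the map onto the presented Lyons group -/
abbrev pres : FreeGroup Cfsg.Spor.Ly.Gen →* Cfsg.Spor.Ly :=
  PresentedGroup.mk (Cfsg.Spor.coxRelators Cfsg.Spor.Ly.edges ∪ {r | r ∈ Cfsg.Spor.Ly.extra})

theorem pres_extra {j : ℕ} (h : j < Cfsg.Spor.Ly.extra.length) : pres (Cfsg.Spor.Ly.extra[j]) = 1 :=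
  PresentedGroup.one_of_mem (Or.inr (List.getElem_mem h))

theorem ly_rels : Rels (pres Cfsg.Spor.Ly.a) (pres Cfsg.Spor.Ly.b) (pres Cfsg.Spor.Ly.c)
    (pres Cfsg.Spor.Ly.d) := by
  have h6 := pres_extra (j := 5) (by decide)
  simp only [Cfsg.Spor.Ly.extra, List.getElem_cons_succ, List.getElem_cons_zero, map_mul, map_inv, map_pow, mul_inv_eq_one] at h6
  have h7 := pres_extra (j := 6) (by decide)
  simp only [Cfsg.Spor.Ly.extra, List.getElem_cons_succ, List.getElem_cons_zero, map_mul, map_inv, map_pow, mul_inv_eq_one] at h7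
  have h8 := pres_extra (j := 7) (by decide)
  simp only [Cfsg.Spor.Ly.extra, List.getElem_cons_succ, List.getElem_cons_zero, map_mul, map_inv, map_pow, mul_inv_eq_one] at h8
  have h9 := pres_extra (j := 8) (by decide)
  simp only [Cfsg.Spor.Ly.extra, List.getElem_cons_succ, List.getElem_cons_zero, map_mul, map_inv, map_pow, mul_inv_eq_one] at h9
  have h10 := pres_extra (j := 9) (by decide)
  simp only [Cfsg.Spor.Ly.extra, List.getElem_cons_succ, List.getElem_cons_zero, map_mul, map_inv, map_pow, mul_inv_eq_one] at h10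
  have h29 := pres_extra (j := 28) (by decide)
  simp only [Cfsg.Spor.Ly.extra, List.getElem_cons_succ, List.getElem_cons_zero, map_mul, map_inv, map_pow, mul_inv_eq_one] at h29
  have e6 : pres Cfsg.Spor.Ly.c1 = pres Cfsg.Spor.Ly.c := by
    rw [h6]
  have e7 : pres Cfsg.Spor.Ly.c2 = q2 (pres Cfsg.Spor.Ly.a) (pres Cfsg.Spor.Ly.c) := by
    rw [h7]
    first | rfl | simp [q2, q3, q4, q5, ee, mul_assoc]
  have e8 : pres Cfsg.Spor.Ly.c3 = q3 (pres Cfsg.Spor.Ly.b) (pres Cfsg.Spor.Ly.c) := by
    rw [h8]
    first | rfl | simp [q2, q3, q4, q5, ee, mul_assoc]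
  have e9 : pres Cfsg.Spor.Ly.c4 = q4 (pres Cfsg.Spor.Ly.b) (pres Cfsg.Spor.Ly.c) := by
    rw [h9]
    first | rfl | simp [q2, q3, q4, q5, ee, mul_assoc]
  have e10 : pres Cfsg.Spor.Ly.c5 = q5 (pres Cfsg.Spor.Ly.a) (pres Cfsg.Spor.Ly.c) := by
    rw [h10, e6, e7]
    first | rfl | simp [q2, q3, q4, q5, ee, mul_assoc]
  have e29 : pres Cfsg.Spor.Ly.e = ee (pres Cfsg.Spor.Ly.a) (pres Cfsg.Spor.Ly.b) (pres Cfsg.Spor.Ly.c) (pres Cfsg.Spor.Ly.d) := by
    rw [h29, e6]
    first | rfl | simp [q2, q3, q4, q5, ee, mul_assoc]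
  constructor
  · have h := pres_extra (j := 0) (by decide)
    simp only [Cfsg.Spor.Ly.extra, List.getElem_cons_succ, List.getElem_cons_zero, map_mul, map_inv, map_pow, mul_inv_eq_one, e6, e7, e8, e9, e10, e29] at h
    exact h
  · have h := pres_extra (j := 1) (by decide)
    simp only [Cfsg.Spor.Ly.extra, List.getElem_cons_succ, List.getElem_cons_zero, map_mul, map_inv, map_pow, mul_inv_eq_one, e6, e7, e8, e9, e10, e29] at h
    exact h
  · have h := pres_extra (j := 2) (by decide)
    simp only [Cfsg.Spor.Ly.extra, List.getElem_cons_succ, List.getElem_cons_zero, map_mul, map_inv, map_pow, mul_inv_eq_one, e6, e7, e8, e9, e10, e29] at h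
    exact h
  · have h := pres_extra (j := 3) (by decide)
    simp only [Cfsg.Spor.Ly.extra, List.getElem_cons_succ, List.getElem_cons_zero, map_mul, map_inv, map_pow, mul_inv_eq_one, e6, e7, e8, e9, e10, e29] at h
    exact h
  · have h := pres_extra (j := 4) (by decide)
    simp only [Cfsg.Spor.Ly.extra, List.getElem_cons_succ, List.getElem_cons_zero, map_mul, map_inv, map_pow, mul_inv_eq_one, e6, e7, e8, e9, e10, e29] at h
    exact h
  · have h := pres_extra (j := 10) (by decide)
    simp only [Cfsg.Spor.Ly.extra, List.getElem_cons_succ, List.getElem_cons_zero, map_mul, map_inv, map_pow, mul_inv_eq_one, e6, e7, e8, e9, e10, e29] at h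
    exact h
  · have h := pres_extra (j := 11) (by decide)
    simp only [Cfsg.Spor.Ly.extra, List.getElem_cons_succ, List.getElem_cons_zero, map_mul, map_inv, map_pow, mul_inv_eq_one, e6, e7, e8, e9, e10, e29] at h
    exact h
  · have h := pres_extra (j := 12) (by decide)
    simp only [Cfsg.Spor.Ly.extra, List.getElem_cons_succ, List.getElem_cons_zero, map_mul, map_inv, map_pow, mul_inv_eq_one, e6, e7, e8, e9, e10, e29] at h
    exact h
  · have h := pres_extra (j := 13) (by decide)
    simp only [Cfsg.Spor.Ly.extra, List.getElem_cons_succ, List.getElem_cons_zero, map_mul, map_inv, map_pow, mul_inv_eq_one, e6, e7, e8, e9, e10, e29] at h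
    exact h
  · have h := pres_extra (j := 14) (by decide)
    simp only [Cfsg.Spor.Ly.extra, List.getElem_cons_succ, List.getElem_cons_zero, map_mul, map_inv, map_pow, mul_inv_eq_one, e6, e7, e8, e9, e10, e29] at h
    exact h
  · have h := pres_extra (j := 15) (by decide)
    simp only [Cfsg.Spor.Ly.extra, List.getElem_cons_succ, List.getElem_cons_zero, map_mul, map_inv, map_pow, mul_inv_eq_one, e6, e7, e8, e9, e10, e29] at h
    exact h
  · have h := pres_extra (j := 16) (by decide)
    simp only [Cfsg.Spor.Ly.extra, List.getElem_cons_succ, List.getElem_cons_zero, map_mul, map_inv, map_pow, mul_inv_eq_one, e6, e7, e8, e9, e10, e29] at h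
    exact h
  · have h := pres_extra (j := 17) (by decide)
    simp only [Cfsg.Spor.Ly.extra, List.getElem_cons_succ, List.getElem_cons_zero, map_mul, map_inv, map_pow, mul_inv_eq_one, e6, e7, e8, e9, e10, e29] at h
    exact h
  · have h := pres_extra (j := 18) (by decide)
    simp only [Cfsg.Spor.Ly.extra, List.getElem_cons_succ, List.getElem_cons_zero, map_mul, map_inv, map_pow, mul_inv_eq_one, e6, e7, e8, e9, e10, e29] at h
    exact h
  · have h := pres_extra (j := 19) (by decide)
    simp only [Cfsg.Spor.Ly.extra, List.getElem_cons_succ, List.getElem_cons_zero, map_mul, map_inv, map_pow, mul_inv_eq_one, e6, e7, e8, e9, e10, e29] at h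
    exact h
  · have h := pres_extra (j := 20) (by decide)
    simp only [Cfsg.Spor.Ly.extra, List.getElem_cons_succ, List.getElem_cons_zero, map_mul, map_inv, map_pow, mul_inv_eq_one, e6, e7, e8, e9, e10, e29] at h
    exact h
  · have h := pres_extra (j := 21) (by decide)
    simp only [Cfsg.Spor.Ly.extra, List.getElem_cons_succ, List.getElem_cons_zero, map_mul, map_inv, map_pow, mul_inv_eq_one, e6, e7, e8, e9, e10, e29] at h
    exact h
  · have h := pres_extra (j := 22) (by decide)
    simp only [Cfsg.Spor.Ly.extra, List.getElem_cons_succ, List.getElem_cons_zero, map_mul, map_inv, map_pow, mul_inv_eq_one, e6, e7, e8, e9, e10, e29] at h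
    exact h
  · have h := pres_extra (j := 23) (by decide)
    simp only [Cfsg.Spor.Ly.extra, List.getElem_cons_succ, List.getElem_cons_zero, map_mul, map_inv, map_pow, mul_inv_eq_one, e6, e7, e8, e9, e10, e29] at h
    exact h
  · have h := pres_extra (j := 24) (by decide)
    simp only [Cfsg.Spor.Ly.extra, List.getElem_cons_succ, List.getElem_cons_zero, map_mul, map_inv, map_pow, mul_inv_eq_one, e6, e7, e8, e9, e10, e29] at h
    exact h
  · have h := pres_extra (j := 25) (by decide)
    simp only [Cfsg.Spor.Ly.extra, List.getElem_cons_succ, List.getElem_cons_zero, map_mul, map_inv, map_pow, mul_inv_eq_one, e6, e7, e8, e9, e10, e29] at h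
    exact h
  · have h := pres_extra (j := 26) (by decide)
    simp only [Cfsg.Spor.Ly.extra, List.getElem_cons_succ, List.getElem_cons_zero, map_mul, map_inv, map_pow, mul_inv_eq_one, e6, e7, e8, e9, e10, e29] at h
    exact h
  · have h := pres_extra (j := 27) (by decide)
    simp only [Cfsg.Spor.Ly.extra, List.getElem_cons_succ, List.getElem_cons_zero, map_mul, map_inv, map_pow, mul_inv_eq_one, e6, e7, e8, e9, e10, e29] at h
    exact h
  · have h := pres_extra (j := 29) (by decide)
    simp only [Cfsg.Spor.Ly.extra, List.getElem_cons_succ, List.getElem_cons_zero, map_mul, map_inv, map_pow, mul_inv_eq_one, e6, e7, e8, e9, e10, e29] at h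
    exact h
  · have h := pres_extra (j := 30) (by decide)
    simp only [Cfsg.Spor.Ly.extra, List.getElem_cons_succ, List.getElem_cons_zero, map_mul, map_inv, map_pow, mul_inv_eq_one, e6, e7, e8, e9, e10, e29] at h
    exact h
  · have h := pres_extra (j := 31) (by decide)
    simp only [Cfsg.Spor.Ly.extra, List.getElem_cons_succ, List.getElem_cons_zero, map_mul, map_inv, map_pow, mul_inv_eq_one, e6, e7, e8, e9, e10, e29] at h
    exact h
  · have h := pres_extra (j := 32) (by decide)
    simp only [Cfsg.Spor.Ly.extra, List.getElem_cons_succ, List.getElem_cons_zero, map_mul, map_inv, map_pow, mul_inv_eq_one, e6, e7, e8, e9, e10, e29] at h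
    exact h
  · have h := pres_extra (j := 33) (by decide)
    simp only [Cfsg.Spor.Ly.extra, List.getElem_cons_succ, List.getElem_cons_zero, map_mul, map_inv, map_pow, mul_inv_eq_one, e6, e7, e8, e9, e10, e29] at h
    exact h
  · have h := pres_extra (j := 34) (by decide)
    simp only [Cfsg.Spor.Ly.extra, List.getElem_cons_succ, List.getElem_cons_zero, map_mul, map_inv, map_pow, mul_inv_eq_one, e6, e7, e8, e9, e10, e29] at h
    exact h
  · have h := pres_extra (j := 35) (by decide)
    simp only [Cfsg.Spor.Ly.extra, List.getElem_cons_succ, List.getElem_cons_zero, map_mul, map_inv, map_pow, mul_inv_eq_one, e6, e7, e8, e9, e10, e29] at h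
    exact h
  · have h := pres_extra (j := 37) (by decide)
    simp only [Cfsg.Spor.Ly.extra, List.getElem_cons_succ, List.getElem_cons_zero, map_mul, map_inv, map_pow, mul_inv_eq_one, e6, e7, e8, e9, e10, e29] at h
    exact h
  · have h := pres_extra (j := 38) (by decide)
    simp only [Cfsg.Spor.Ly.extra, List.getElem_cons_succ, List.getElem_cons_zero, map_mul, map_inv, map_pow, mul_inv_eq_one, e6, e7, e8, e9, e10, e29] at h
    exact h
  · have h := pres_extra (j := 40) (by decide)
    simp only [Cfsg.Spor.Ly.extra, List.getElem_cons_succ, List.getElem_cons_zero, map_mul, map_inv, map_pow, mul_inv_eq_one, e6, e7, e8, e9, e10, e29] at h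
    exact h
  · have h := pres_extra (j := 41) (by decide)
    simp only [Cfsg.Spor.Ly.extra, List.getElem_cons_succ, List.getElem_cons_zero, map_mul, map_inv, map_pow, mul_inv_eq_one, e6, e7, e8, e9, e10, e29] at h
    exact h

/-- the map from the group on a, b, c, d -/
noncomputable def toLy : N0 →* Cfsg.Spor.Ly := toG ly_rels

theorem toLy_range : toLy.range =
    (Subgroup.closure ({Cfsg.Spor.Ly.a, Cfsg.Spor.Ly.b, Cfsg.Spor.Ly.c, Cfsg.Spor.Ly.d} :
      Set (FreeGroup Cfsg.Spor.Ly.Gen))).map pres := by
  rw [toLy, toG_range, MonoidHom.map_closure]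
  simp [Set.image_insert_eq]

end Ly
end H23
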